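import Groth.Agent.AlgEqPointLib.Main
import Groth.Agent.CycDivLib.Ord
import Groth.Agent.CycBivLib.Setup
import Groth.Agent.CycAffLib.Fibre
import Groth.Agent.CycCommLib.RatEquiv
import Groth.Agent.CycC1Lib.Degree
import Groth.Agent.CycPushLib.Proper
import Groth.Agent.S1855
import Groth.Agent.IntMultRegLib.Geom
import Groth.Agent.DimIneqLib.Scheme
import Groth.Agent.CurveVBLib.Basic
import Groth.Agent.MiscFlat6.NormalLowDim

/-!
# Moving zero-cycles into an open set along curves
-/

set_option autoImplicit false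
set_option maxHeartbeats 1000000
set_option linter.style.haveILetI false
set_option backward.isDefEq.respectTransparency false

universe u

open AlgebraicGeometry CategoryTheory CategoryTheory.Limits IsLocalRing TopologicalSpace

namespace MoveZeroLib

variable {k : Type u} [Field k]

theorem dim_closure_eq {X : Scheme.{u}} (q : X ⟶ Spec (CommRingCat.of k)) [LocallyOfFiniteType q] {δ : X → ℤ}
    (hδ : Cyc.DeltaCompat q δ (fun _ => 0)) (x : X) :
    ∃ m : ℕ, δ x = m ∧ topologicalKrullDim ↥(closure ({x} : Set X)) = m := by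
  obtain ⟨m, h1, h2⟩ := hδ x
  refine ⟨m, by simpa using h2, ?_⟩
  rw [← IntMultRegLib.fibreClosureDim_eq q x, DimIneqLib.fibreClosureDim_eq_trH, DimIneqLib.trH_eq_natCast h1]
  rfl

theorem delta_closed {X : Scheme.{u}} (q : X ⟶ Spec (CommRingCat.of k)) [LocallyOfFiniteType q] {δ : X → ℤ}
    (hδ : Cyc.DeltaCompat q δ (fun _ => 0)) {x : X} (hx : IsClosed ({x} : Set X)) : δ x = 0 := by
  letI : X.Over (Spec (CommRingCat.of k)) := ⟨q⟩
  haveI : LocallyOfFiniteType (X ↘ Spec (CommRingCat.of k)) := ‹LocallyOfFiniteType q›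
  exact CycC1Lib.delta_eq_zero_of_isClosed hδ hx

variable [IsAlgClosed k]

theorem residueFieldMap_bijective {X : Scheme.{u}} (q : X ⟶ Spec (CommRingCat.of k)) [LocallyOfFiniteType q] {δ : X → ℤ}
    (hδ : Cyc.DeltaCompat q δ (fun _ => 0)) {x : X} (hx : IsClosed ({x} : Set X)) :
    Function.Bijective (q.residueFieldMap x).hom := by
  obtain ⟨n, hn, hn'⟩ := hδ x
  rw [delta_closed q hδ hx] at hn'
  obtain rfl : n = 0 := by simp only [zero_add] at hn'; omega
  haveI := AlgEqPointLib.isAlgClosed_residueField (q x)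
  letI := (q.residueFieldMap x).hom.toAlgebra
  haveI : Algebra.IsAlgebraic ((Spec (CommRingCat.of k)).residueField (q x)) (X.residueField x) :=
    trdeg_eq_zero_iff.1 (by simpa using hn)
  exact IsAlgClosed.algebraMap_bijective_of_isIntegral (k := (Spec (CommRingCat.of k)).residueField (q x))

variable {C : Scheme.{u}} (q : C ⟶ Spec (CommRingCat.of k)) [IsProper q] [Smooth q] [IsIntegral C]
  (hd : topologicalKrullDim C = 1) {δ : C → ℤ} (hδ : Cyc.DeltaCompat q δ (fun _ => 0))

include hd hδ in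
/-- A rationally trivial cycle with a simple value at one point and vanishing at finitely many others. -/
theorem exists_cycle_one (c : C) (hc : IsClosed ({c} : Set C)) (T : Set C) (hT : T.Finite)
    (hTc : ∀ t ∈ T, IsClosed ({t} : Set C)) (hcT : c ∉ T) :
    ∃ β : AlgebraicCycle C ℤ, β ∈ Cyc.Zk C δ 0 ∧ Cyc.RatEquivZero δ 0 β ∧ β c = 1 ∧ ∀ t ∈ T, β t = 0 := by
  classical
  haveI : IsLocallyNoetherian C := LocallyOfFiniteType.isLocallyNoetherian q
  haveI : CompactSpace C := QuasiCompact.compactSpace_of_compactSpace q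
  haveI : IsNoetherian C := ⟨⟩
  haveI : C.IsSeparated := ⟨by rw [← terminal.comp_from q]; infer_instance⟩
  letI : C.Over (Spec (CommRingCat.of k)) := ⟨q⟩
  haveI : Smooth (C ↘ Spec (CommRingCat.of k)) := ‹Smooth q›
  obtain ⟨V, hV, hSV⟩ := CurveAmpLib.exists_affine_of_finite hd.le (insert c T) (hT.insert c)
  have hcV : c ∈ V := hSV (Set.mem_insert _ _)
  haveI : Nonempty V := ⟨⟨c, hcV⟩⟩
  let mc := (hV.primeIdealOf ⟨c, hcV⟩).asIdeal
  haveI hmc : mc.IsMaximal := hV.primeIdealOf_isMaximal_of_isClosed ⟨c, hcV⟩ hc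
  let mt : hT.toFinset → Ideal Γ(C, V) := fun t =>
    (hV.primeIdealOf ⟨t.1, hSV (Set.mem_insert_of_mem _ (hT.mem_toFinset.1 t.2))⟩).asIdeal
  have hmt : ∀ t, (mt t).IsMaximal := fun t =>
    hV.primeIdealOf_isMaximal_of_isClosed ⟨t.1, hSV (Set.mem_insert_of_mem _ (hT.mem_toFinset.1 t.2))⟩
      (hTc _ (hT.mem_toFinset.1 t.2))
  have hne : ∀ t, mc ^ 2 ⊔ mt t = ⊤ := fun t => by
    refine (hmt t).out.2 _ (lt_of_le_of_ne le_sup_right fun e => ?_)
    have h1 : mc ^ 2 ≤ mt t := le_sup_left.trans e.ge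
    have h2 : mc = mt t := hmc.eq_of_le (hmt t).ne_top ((hmt t).isPrime.le_of_pow_le h1)
    have h3 := congrArg (fun p => hV.fromSpec p) (PrimeSpectrum.ext h2 :
      hV.primeIdealOf ⟨c, hcV⟩ = hV.primeIdealOf ⟨t.1, hSV (Set.mem_insert_of_mem _ (hT.mem_toFinset.1 t.2))⟩)
    rw [hV.fromSpec_primeIdealOf, hV.fromSpec_primeIdealOf] at h3
    exact hcT ((show c = t.1 from h3) ▸ hT.mem_toFinset.1 t.2)
  -- the stalk at the point
  haveI hreg : IsRegularLocalRing (C.presheaf.stalk c) := CurveVBLib.regular_stalk (k := k) c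
  letI : Algebra Γ(C, V) (C.presheaf.stalk c) := (C.presheaf.germ V c hcV).hom.toAlgebra
  haveI hloc : IsLocalization.AtPrime (C.presheaf.stalk c) mc := hV.isLocalization_stalk ⟨c, hcV⟩
  have hprinc : Submodule.spanFinrank (maximalIdeal (C.presheaf.stalk c)) ≤ 1 := by
    have h1 := IsRegularLocalRing.spanFinrank_maximalIdeal (R := C.presheaf.stalk c)
    have h2 := (MiscFlat6.ringKrullDim_stalk_le C c).trans hd.le
    rw [← h1] at h2
    exact_mod_cast h2
  obtain ⟨π, hπ⟩ : ∃ π, maximalIdeal (C.presheaf.stalk c) = Ideal.span {π} := by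
    haveI : (maximalIdeal (C.presheaf.stalk c)).IsPrincipal := by
      obtain ⟨s, hs, hs'⟩ := Submodule.FG.exists_span_finset_card_eq_spanFinrank
        ((maximalIdeal (C.presheaf.stalk c)).fg_of_isNoetherianRing)
      have hcard : s.card ≤ 1 := hs.trans_le hprinc
      rcases s.eq_empty_or_nonempty with h | ⟨π, hπ⟩
      · exact ⟨0, by rw [← hs', h]; simp⟩
      · refine ⟨π, ?_⟩
        rw [← hs', Finset.eq_singleton_iff_unique_mem.2 ⟨hπ, fun y hy => Finset.card_le_one.1 hcard y hy π hπ⟩]
        simp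
    exact ⟨_, (Ideal.span_singleton_generator _).symm⟩
  obtain ⟨a, s, hs⟩ := IsLocalization.exists_mk'_eq mc.primeCompl π
  have hau : algebraMap Γ(C, V) (C.presheaf.stalk c) a = π * algebraMap Γ(C, V) (C.presheaf.stalk c) s := by
    rw [← hs, IsLocalization.mk'_spec]
  have hJ : mc ^ 2 ⊔ ∏ t, mt t = ⊤ := Ideal.sup_prod_eq_top fun t _ => hne t
  obtain ⟨e₁, he₁, e₂, he₂, he⟩ := Submodule.mem_sup.1 (hJ.ge (Submodule.mem_top (x := (1 : Γ(C, V)))))
  let g := a * e₂ + e₁
  have hg₂ : g - a ∈ mc ^ 2 := by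
    have : g - a = e₁ * (1 - a) := by
      show a * e₂ + e₁ - a = _
      linear_combination (-(a)) * (0 : Γ(C, V)) + a * he
    rw [this]
    exact Ideal.mul_mem_right _ _ he₁
  have hgt : ∀ t, g ∉ mt t := fun t hgt => by
    have h2 : e₂ ∈ mt t := (Ideal.prod_le_inf.trans (Finset.inf_le (Finset.mem_univ t))) he₂
    have h1 : e₁ ∈ mt t := (Ideal.add_mem_iff_right _ (Ideal.mul_mem_left _ a h2)).1 hgt
    exact (hmt t).ne_top ((Ideal.eq_top_iff_one _).2 (he ▸ add_mem h1 h2))
  let germc := algebraMap Γ(C, V) (C.presheaf.stalk c)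
  have hspan : Ideal.span {germc g} = maximalIdeal (C.presheaf.stalk c) := by
    have hsu : IsUnit (germc s) := IsLocalization.map_units (C.presheaf.stalk c) s
    have hm2 : germc (g - a) ∈ maximalIdeal (C.presheaf.stalk c) ^ 2 := by
      rw [← IsLocalization.AtPrime.map_eq_maximalIdeal mc (C.presheaf.stalk c), ← Ideal.map_pow]
      exact Ideal.mem_map_of_mem _ hg₂
    rw [hπ, Ideal.span_singleton_pow, Ideal.mem_span_singleton'] at hm2
    obtain ⟨r, hr⟩ := hm2
    rw [hπ]
    have hg' : germc g = π * (germc s + r * π) := by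
      have h1 : germc g = germc (g - a) + germc a := by rw [← map_add, sub_add_cancel]
      rw [h1, ← hr, show germc a = π * germc s from hau]
      ring
    have hu : IsUnit (germc s + r * π) := by
      by_contra hn
      have h1 : germc s + r * π ∈ maximalIdeal (C.presheaf.stalk c) := hn
      have h2 : r * π ∈ maximalIdeal (C.presheaf.stalk c) := by
        rw [hπ]; exact Ideal.mul_mem_left _ _ (Ideal.mem_span_singleton_self π)
      exact (Ideal.add_mem_iff_left _ h2).1 h1 hsu
    rw [hg', Ideal.span_singleton_mul_right_unit hu]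
  -- the function
  let η := genericPoint C
  have hηV : η ∈ V := ((genericPoint_spec C).mem_open_set_iff V.2).2 ⟨c, trivial, hcV⟩
  let ψ : C.residueField η := C.residue η (C.presheaf.germ V η hηV g)
  have hsp : ∀ x : C, η ⤳ x := fun x => (genericPoint_spec C).specializes trivial
  have hspec : ∀ (x : C) (hx : x ∈ V), Cyc.specMap x η (hsp x) (C.presheaf.germ V x hx g) = ψ := by
    intro x hx
    show C.residue η (C.presheaf.stalkSpecializes (hsp x) (C.presheaf.germ V x hx g)) = _
    rw [TopCat.Presheaf.germ_stalkSpecializes_apply]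
  have hηδ : δ η = 1 := by
    obtain ⟨m, hm, hm'⟩ := dim_closure_eq q hδ η
    rw [show closure ({η} : Set C) = Set.univ from (genericPoint_spec C).def,
      (Homeomorph.Set.univ C).isHomeomorph.topologicalKrullDim_eq, hd] at hm'
    rw [hm, show m = 1 by exact_mod_cast hm'.symm]
    rfl
  have hψ : ψ ≠ 0 := by
    intro hψ
    have h1 : C.presheaf.germ V η hηV g = 0 := by
      have := (IsLocalRing.residue_eq_zero_iff _).1 hψ
      rwa [IsLocalRing.isField_iff_maximalIdeal_eq.1 (Field.toIsField C.functionField), Submodule.mem_bot] at this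
    have hg0 : g = 0 := germ_injective_of_isIntegral C η hηV (by rw [h1, map_zero])
    rw [hg0, map_zero, Ideal.span_singleton_eq_bot.2 rfl] at hspan
    have h2 := (ringKrullDim_eq_zero_of_isField (IsLocalRing.isField_iff_maximalIdeal_eq.2 hspan.symm))
    obtain ⟨m, hm, hm'⟩ := dim_closure_eq q hδ c
    have h3 : Ideal.map germc mc = ⊥ := (IsLocalization.AtPrime.map_eq_maximalIdeal mc (C.presheaf.stalk c)).trans hspan.symm
    have h4 : mc = ⊥ := by
      refine le_bot_iff.1 fun r hr => germ_injective_of_isIntegral C c hcV ?_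
      rw [map_zero]
      exact (Submodule.mem_bot _).1 (h3.le (Ideal.mem_map_of_mem _ hr))
    have h5 : hV.primeIdealOf ⟨c, hcV⟩ = hV.primeIdealOf ⟨η, hηV⟩ := by
      refine PrimeSpectrum.ext (h4.trans ?_)
      have := (PrimeSpectrum.le_iff_specializes (hV.primeIdealOf ⟨η, hηV⟩) (hV.primeIdealOf ⟨c, hcV⟩)).2
        (hV.fromSpec.isOpenEmbedding.isInducing.specializes_iff.1 (by
          rw [hV.fromSpec_primeIdealOf, hV.fromSpec_primeIdealOf]; exact hsp c))
      exact (le_bot_iff.1 ((show (hV.primeIdealOf ⟨η, hηV⟩).asIdeal ≤ mc from this).trans h4.le)).symm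
    have h6 := congrArg (fun p => hV.fromSpec p) h5
    rw [hV.fromSpec_primeIdealOf, hV.fromSpec_primeIdealOf] at h6
    have h7 : δ c = 1 := (show c = η from h6) ▸ hηδ
    rw [delta_closed q hδ hc] at h7
    exact absurd h7 (by norm_num)
  have hdb : ∀ x : C, EquidimLib.dimBetween η x ≤ 1 := fun x => by
    rw [← CycDivLib.dim_quotient (hsp x)]
    exact (ringKrullDim_quotient_le _).trans ((MiscFlat6.ringKrullDim_stalk_le C x).trans hd.le)
  have hord : ∀ (x : C) (hx : x ∈ V), Cyc.ordAt x η (hsp x) ψ =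
      ((Module.length (C.presheaf.stalk x)
        (C.presheaf.stalk x ⧸ (CycDivLib.primeOf (hsp x)).asIdeal ⊔ Ideal.span {C.presheaf.germ V x hx g})).toNat : ℤ) := by
    intro x hx
    rw [← hspec x hx]
    exact CycDivLib.ordAt_specMap (hsp x) (hdb x) (by rw [hspec x hx]; exact hψ)
  have hunit : ∀ (x : C) (hx : x ∈ V), IsUnit (C.presheaf.germ V x hx g) → Cyc.ordAt x η (hsp x) ψ = 0 := by
    intro x hx hu
    rw [hord x hx, Ideal.span_singleton_eq_top.2 hu, sup_top_eq]
    haveI : Subsingleton (C.presheaf.stalk x ⧸ (⊤ : Ideal (C.presheaf.stalk x))) :=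
      Ideal.Quotient.subsingleton_iff.2 rfl
    rw [Module.length_eq_zero]
    rfl
  have hfin : (Function.support (Cyc.divFun δ η ψ)).Finite := by
    refine (FinPicLib.finite_of_closed hd.le (C.basicOpen g).2.isClosed_compl ?_).subset fun x hx => ?_
    · intro z hz hgen
      refine hz ?_
      have hzη : z = η := hgen η (hsp z) |>.symm
      subst hzη
      refine (Scheme.mem_basicOpen C g η hηV).2 ?_
      by_contra hn
      exact hψ ((IsLocalRing.residue_eq_zero_iff _).2 hn)
    · intro hxg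
      have hxV : x ∈ V := C.basicOpen_le g hxg
      refine hx ?_
      unfold Cyc.divFun
      split_ifs with h
      · exact hunit x hxV ((Scheme.mem_basicOpen C g x hxV).1 hxg)
      · rfl
  let β : AlgebraicCycle C ℤ :=
    { toFun := Cyc.divFun δ η ψ
      supportWithinDomain' := fun _ _ => trivial
      supportLocallyFiniteWithinDomain' := fun _ _ => ⟨Set.univ, Filter.univ_mem, hfin.subset Set.inter_subset_right⟩ }
  refine ⟨β, fun x hx => ?_, ⟨PUnit, fun _ => η, fun _ => ψ, fun _ => by rw [hηδ]; rfl, fun _ => hψ,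
    fun x => ⟨Set.univ, isOpen_univ, trivial, Set.toFinite _⟩, fun x => (finsum_unique (fun _ : PUnit.{u + 1} => Cyc.divFun δ η ψ x)).symm⟩, ?_, fun t ht => ?_⟩
  · show Cyc.divFun δ η ψ x = 0
    unfold Cyc.divFun
    rw [dif_neg]
    rintro ⟨-, h⟩
    exact hx (by omega)
  · show Cyc.divFun δ η ψ c = 1
    unfold Cyc.divFun
    rw [dif_pos ⟨hsp c, by rw [delta_closed q hδ hc, hηδ]; rfl⟩, hord c hcV]
    rw [show (CycDivLib.primeOf (hsp c)).asIdeal ⊔ Ideal.span {C.presheaf.germ V c hcV g} =
      maximalIdeal (C.presheaf.stalk c) by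
        rw [show Ideal.span {C.presheaf.germ V c hcV g} = _ from hspan]
        exact sup_eq_right.2 (IsLocalRing.le_maximalIdeal (CycDivLib.primeOf (hsp c)).isPrime.ne_top)]
    rw [Module.length_eq_one_iff.2 (isSimpleModule_iff_isCoatom.2 (Ideal.isMaximal_def.1 (maximalIdeal.isMaximal _)))]
    rfl
  · show Cyc.divFun δ η ψ t = 0
    unfold Cyc.divFun
    split_ifs with h
    · let t' : hT.toFinset := ⟨t, hT.mem_toFinset.2 ht⟩
      have htV : t ∈ V := hSV (Set.mem_insert_of_mem _ ht)
      letI : Algebra Γ(C, V) (C.presheaf.stalk t) := (C.presheaf.germ V t htV).hom.toAlgebra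
      haveI : IsLocalization.AtPrime (C.presheaf.stalk t) (mt t') := hV.isLocalization_stalk ⟨t, htV⟩
      exact hunit t htV ((IsLocalization.AtPrime.isUnit_to_map_iff (C.presheaf.stalk t) (mt t') g).2 (hgt t'))
    · rfl

omit C q [IsProper q] [Smooth q] [IsIntegral C] in
/-- A zero-cycle on an integral proper variety moves into any nonempty open set. -/
theorem exists_ratEquiv_supported {W : Scheme.{u}} (p : W ⟶ Spec (CommRingCat.of k)) [IsProper p] [IsIntegral W]
    {δ : W → ℤ} (hδ : Cyc.DeltaCompat p δ (fun _ => 0)) (U : W.Opens) (hU : (U : Set W).Nonempty)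
    (z : AlgebraicCycle W ℤ) (hz : z ∈ Cyc.Zk W δ 0) :
    ∃ z' : AlgebraicCycle W ℤ, z' ∈ Cyc.Zk W δ 0 ∧ (∀ w, z' w ≠ 0 → w ∈ U) ∧ Cyc.RatEquiv δ 0 z z' := by
  classical
  have hS : Cyc.IsSetup W δ := CycBivLib.isSetup_of_lft p CycC1Lib.isSetup_field hδ
  have step : ∀ x : W, IsClosed ({x} : Set W) → x ∉ U →
      ∃ γ : AlgebraicCycle W ℤ, γ ∈ Cyc.Zk W δ 0 ∧ Cyc.RatEquivZero δ 0 γ ∧
        ∀ w, w ∉ U → γ w = if w = x then 1 else 0 := by
    intro x hx hxU
    obtain ⟨y, hyU, hyx, hydim⟩ := AVAmpleLib.exists_curve_not_mem p x hx (F := (U : Set W)ᶜ) U.2.isClosed_compl hxU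
      (fun h => by obtain ⟨w, hw⟩ := hU; exact (h.ge (Set.mem_univ w)) hw)
    obtain ⟨Y, i, hi, hY, hrange⟩ := SquareLib.exists_integral_sub (Z := closure ({y} : Set W))
      isIrreducible_singleton.closure isClosed_closure
    haveI := hi; haveI := hY
    obtain ⟨C, ν, hC, hsurj, hfin⟩ := SquareLib.exists_smooth_normalization (i ≫ p) (by
      rw [(i.isEmbedding.toHomeomorph.trans (Homeomorph.setCongr hrange)).isHomeomorph.topologicalKrullDim_eq]
      exact hydim.le)
    haveI := hfin; haveI := hsurj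
    obtain ⟨hCs, -, -, hCint, hCd⟩ := hC
    let h : C.left ⟶ W := ν.left ≫ i
    have hh : h ≫ p = C.hom := (Category.assoc _ _ _).trans (Over.w ν)
    haveI : IsProper C.hom := by rw [← hh]; infer_instance
    haveI : IsProper h := by
      haveI : IsProper (h ≫ p) := by rw [hh]; infer_instance
      exact IsProper.of_comp h p
    haveI : Smooth C.hom := hCs
    haveI : IsIntegral C.left := GeometricallyIntegral.isIntegral_of_subsingleton C.hom
    haveI : IsLocallyNoetherian C.left := LocallyOfFiniteType.isLocallyNoetherian C.hom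
    haveI : CompactSpace C.left := QuasiCompact.compactSpace_of_compactSpace C.hom
    haveI : IsNoetherian C.left := ⟨⟩
    haveI : JacobsonSpace C.left := LocallyOfFiniteType.jacobsonSpace C.hom
    have hon : ∀ w ∈ closure ({y} : Set W), ∃ a, h a = w := fun w hw => by
      obtain ⟨b, hb⟩ := hrange.ge hw
      obtain ⟨a, ha⟩ := ν.left.surjective b
      exact ⟨a, by rw [Scheme.Hom.comp_apply, ha]; exact hb⟩
    have hin : ∀ a, y ⤳ h a := fun a => specializes_iff_mem_closure.2 (hrange.le ⟨ν.left a, rfl⟩)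
    have hη : h (genericPoint C.left) = y := by
      obtain ⟨d, hd⟩ := hon y (subset_closure rfl)
      exact ((hd ▸ ((genericPoint_spec C.left).specializes (trivial : d ∈ Set.univ)).map h.continuous).antisymm
        (hin _)).eq
    have hd1 : topologicalKrullDim C.left = 1 := by
      refine le_antisymm hCd ?_
      by_contra hlt
      have h0 : topologicalKrullDim C.left ≤ 0 := ENat.WithBot.lt_add_one_iff.mp (by simpa using not_le.1 hlt)
      have h0' : topologicalKrullDim (Set.univ : Set C.left) ≤ 0 := by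
        rw [(Homeomorph.Set.univ C.left).isHomeomorph.topologicalKrullDim_eq]; exact h0
      obtain ⟨-, hcl⟩ := CurvLib.finite_isClosed_of_dim_le_zero isClosed_univ h0'
      obtain ⟨a, ha⟩ := hon x (specializes_iff_mem_closure.1 hyx)
      have ha'' : a ∈ ({genericPoint C.left} : Set C.left) :=
        ((genericPoint_spec C.left).specializes trivial).mem_closed (hcl (genericPoint C.left) trivial) (Set.mem_singleton _)
      have ha' : a = genericPoint C.left := ha''
      rw [ha', hη] at ha
      exact hyU (ha ▸ hxU)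
    obtain ⟨c, hcx, hcc⟩ := nonempty_inter_closedPoints (Z := h ⁻¹' {x}) (hon x (specializes_iff_mem_closure.1 hyx))
      (hx.preimage h.continuous).isLocallyClosed
    have hZfin : (h ⁻¹' (U : Set W)ᶜ).Finite ∧ ∀ a ∈ h ⁻¹' (U : Set W)ᶜ, IsClosed ({a} : Set C.left) := by
      refine CurvLib.finite_isClosed_of_dim_le_zero (U.2.isClosed_compl.preimage h.continuous)
        (CurvLib.topologicalKrullDim_le_zero_of_lt hd1 (U.2.isClosed_compl.preimage h.continuous) fun e => ?_)
      have h1 := e.ge (Set.mem_univ (genericPoint C.left))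
      rw [Set.mem_preimage, hη] at h1
      exact hyU h1
    obtain ⟨δC, hδC⟩ := CycAffLib.exists_deltaCompat C.hom (fun _ => (0 : ℤ))
    have hSC : Cyc.IsSetup C.left δC := CycBivLib.isSetup_of_lft C.hom CycC1Lib.isSetup_field hδC
    have hhδ : Cyc.DeltaCompat h δC δ := CycBivLib.deltaCompat_cancel h p hh hδ hδC
    obtain ⟨β, hβk, hβ, hβc, hβT⟩ := exists_cycle_one C.hom hd1 hδC c hcc (h ⁻¹' (U : Set W)ᶜ \ {c})
      (hZfin.1.subset Set.diff_subset) (fun a ha => hZfin.2 a ha.1) (fun hc => hc.2 rfl)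
    have h0k : (0 : AlgebraicCycle C.left ℤ) ∈ Cyc.Zk C.left δC 0 := fun _ _ => rfl
    have hmap0 : AlgebraicCycle.map h δC δ (0 : AlgebraicCycle C.left ℤ) = 0 := DFunLike.ext _ _ fun w => by
      show ∑ᶠ a ∈ (h.base : C.left → W) ⁻¹' {w}, (0 : AlgebraicCycle C.left ℤ) a * _ = 0
      simp
    have hr := Groth.Agent.S1855.result C.left W δC δ hSC hS h hhδ 0 β 0 hβk h0k
      (show Cyc.RatEquivZero δC 0 (β - 0) by rwa [sub_zero])
    rw [hmap0] at hr
    have hr' : Cyc.RatEquivZero δ 0 (AlgebraicCycle.map h δC δ β) := by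
      have := hr
      unfold Cyc.RatEquiv at this
      rwa [sub_zero] at this
    refine ⟨AlgebraicCycle.map h δC δ β, fun w hw => ?_, hr', fun w hw => ?_⟩
    · show ∑ᶠ a ∈ (h.base : C.left → W) ⁻¹' {w}, β a * (AlgebraicCycle.mapCoeff h δC δ a : ℤ) = 0
      refine finsum_mem_eq_zero_of_forall_eq_zero fun a (ha : h a = w) => ?_
      by_cases hb : δC a = 0
      · rw [AlgebraicCycle.mapCoeff, if_neg (by show ¬ δC a = δ (h a); rw [ha, hb]; exact fun e => hw e.symm)]
        simp
      · rw [hβk a hb, zero_mul]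
    · show ∑ᶠ a ∈ (h.base : C.left → W) ⁻¹' {w}, β a * (AlgebraicCycle.mapCoeff h δC δ a : ℤ) = _
      split_ifs with hwx
      · rw [hwx, finsum_mem_def, finsum_eq_single _ c]
        · rw [Set.indicator_of_mem (show c ∈ (h.base : C.left → W) ⁻¹' {x} from hcx), hβc, one_mul, AlgebraicCycle.mapCoeff,
            if_pos (by show δC c = δ (h c); rw [show h c = x from hcx, delta_closed C.hom hδC hcc, delta_closed p hδ hx])]
          have hdeg : h.residueDegree c = 1 := by
            refine CycPBLib.residueDegree_eq_one_of_bijective h c ?_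
            have h1 : Function.Bijective (C.hom.residueFieldMap c).hom := residueFieldMap_bijective C.hom hδC hcc
            have key : ∀ {g : C.left ⟶ Spec (CommRingCat.of k)}, g = C.hom → Function.Surjective (g.residueFieldMap c).hom :=
              fun e => by subst e; exact h1.2
            have h2 := key hh
            rw [Scheme.residueFieldMap_comp] at h2
            exact ⟨(h.residueFieldMap c).hom.injective, Function.Surjective.of_comp h2⟩
          exact_mod_cast hdeg
        · intro a hac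
          rw [Set.indicator_apply]
          split_ifs with ha
          · rw [hβT a ⟨show h a ∉ U from (show h a = x from ha) ▸ hxU, hac⟩, zero_mul]
          · rfl
      · refine finsum_mem_eq_zero_of_forall_eq_zero fun a (ha : h a = w) => ?_
        rw [hβT a ⟨show h a ∉ U from ha ▸ hw, fun e => hwx (by rw [← ha, show a = c from e]; exact hcx)⟩, zero_mul]
  let R : AddSubgroup (AlgebraicCycle W ℤ) :=
    { carrier := {α | α ∈ Cyc.Zk W δ 0 ∧ Cyc.RatEquivZero δ 0 α}
      add_mem' := fun {a b} ha hb => ⟨fun w hw => by simp [ha.1 w hw, hb.1 w hw],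
        CycCommLib.ratEquivZero_add hS ha.2 hb.2 fun _ => rfl⟩
      zero_mem' := ⟨fun _ _ => rfl, CycCommLib.ratEquivZero_of_forall_eq_zero fun _ => rfl⟩
      neg_mem' := fun {a} ha => ⟨fun w hw => by simp [ha.1 w hw], CycCommLib.ratEquivZero_neg hS ha.2 fun _ => rfl⟩ }
  haveI : CompactSpace W := QuasiCompact.compactSpace_of_compactSpace p
  have hfinz : (Function.support ⇑z).Finite := by
    simpa using (Function.locallyFinsupp.locallyFiniteSupport z).finite_inter_support_of_isCompact isCompact_univ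
  let S := hfinz.toFinset.filter (· ∉ U)
  have hScl : ∀ x ∈ S, IsClosed ({x} : Set W) := fun x hx =>
    (AlgEqPointLib.closed_of_delta_zero p hδ (by_contra fun h => hfinz.mem_toFinset.1 (Finset.mem_filter.1 hx).1 (hz x h))).1
  choose γ hγ using fun x : S => step x.1 (hScl x.1 x.2) (Finset.mem_filter.1 x.2).2
  let Γ : AlgebraicCycle W ℤ := ∑ x : S, z x.1 • γ x
  have hΓ : Γ ∈ R := sum_mem fun x _ => R.zsmul_mem ⟨(hγ x).1, (hγ x).2.1⟩ _
  have hΓeval : ∀ w, w ∉ U → Γ w = z w := by
    intro w hw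
    show (∑ x : S, z x.1 • γ x : AlgebraicCycle W ℤ) w = _
    rw [Function.locallyFinsuppWithin.coe_sum, Finset.sum_apply]
    simp only [Function.locallyFinsuppWithin.coe_zsmul, Pi.smul_apply, smul_eq_mul]
    rw [Finset.sum_congr rfl (fun x _ => by rw [(hγ x).2.2 w hw, mul_ite, mul_one, mul_zero])]
    rw [Finset.sum_coe_sort S (fun x => if w = x then z x else 0), Finset.sum_ite_eq]
    split_ifs with hmem
    · rfl
    · by_contra h
      exact hmem (Finset.mem_filter.2 ⟨hfinz.mem_toFinset.2 (Ne.symm h), hw⟩)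
  refine ⟨z - Γ, fun w hw => by simp [hz w hw, hΓ.1 w hw], fun w hw => by_contra fun hwU => hw ?_, ?_⟩
  · simp [hΓeval w hwU]
  · show Cyc.RatEquivZero δ 0 (z - (z - Γ))
    rw [sub_sub_cancel]
    exact hΓ.2

end MoveZeroLib
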